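import Groth.Agent.Pi1FEt.SpecEquiv
import Groth.Agent.Hensel1.FiniteEtaleLift
import Groth.Agent.Hensel1.BaseLift
import Groth.Agent.Hensel1.Pairs

/-!
# Finite étale covers of henselian pairs
-/

universe u

set_option autoImplicit false
set_option backward.isDefEq.respectTransparency false

open CategoryTheory Limits AlgebraicGeometry TensorProduct CommAlgCat Opposite

namespace Groth.Pi1Inv

variable (A : Type u) [CommRing A] (I : Ideal A) [HenselianRing A I]

theorem baseChange_isEquivalence : (FiniteEtale.baseChange.{u, u} A (A ⧸ I)).IsEquivalence := by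
  have hff : ∀ P Q : FiniteEtale.{u} A,
      Function.Bijective (fun φ : P.obj →ₐ[A] Q.obj =>
        Algebra.TensorProduct.map (AlgHom.id (A ⧸ I) (A ⧸ I)) φ) := fun P Q =>
    Groth.Hensel1.bijective_tensorProduct_map_id I P.obj Q.obj
  have : (FiniteEtale.baseChange.{u, u} A (A ⧸ I)).Faithful := ⟨fun {P Q f g} h => by
    refine ObjectProperty.hom_ext _ (CommAlgCat.hom_ext ((hff P Q).1 ?_))
    exact congrArg (fun φ => φ.hom.hom) h⟩
  have : (FiniteEtale.baseChange.{u, u} A (A ⧸ I)).Full := ⟨fun {P Q} f => by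
    obtain ⟨φ, hφ⟩ := (hff P Q).2 f.hom.hom
    exact ⟨ObjectProperty.homMk (CommAlgCat.ofHom φ), ObjectProperty.hom_ext _ (CommAlgCat.hom_ext hφ)⟩⟩
  have : (FiniteEtale.baseChange.{u, u} A (A ⧸ I)).EssSurj := ⟨fun C => by
    obtain ⟨B, _, _, _, _, ⟨e⟩⟩ := Groth.Hensel1.exists_finite_etale_lift I C.obj
    exact ⟨FiniteEtale.of A B, ⟨FiniteEtale.isoMk e⟩⟩⟩
  exact { }

theorem restrict_isEquivalence :
    (FEt.restrict (Spec.map (CommRingCat.ofHom (algebraMap A (A ⧸ I))))).IsEquivalence := by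
  have := baseChange_isEquivalence A I
  have : ((FiniteEtale.baseChange.{u, u} A (A ⧸ I)).op ⋙ Pi1FEt.specFun (A ⧸ I)).IsEquivalence := inferInstance
  have : (Pi1FEt.specFun A ⋙ FEt.restrict (Spec.map (CommRingCat.ofHom (algebraMap A (A ⧸ I))))).IsEquivalence :=
    Functor.isEquivalence_of_iso (Pi1FEt.specFunPullbackIso A (A ⧸ I))
  exact Functor.isEquivalence_of_comp_left (Pi1FEt.specFun A) _

end Groth.Pi1Inv
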