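import Groth.Agent.Pi1Inv.Glue
import Groth.Agent.Pi1Inv.Henselian
import Groth.Agent.Hensel1.Local
import Groth.Agent.Pi1FEt.UnivHomeo
import Mathlib.AlgebraicGeometry.Morphisms.ClosedImmersion

/-!
# Finite étale covers of thickenings
-/

universe u

set_option autoImplicit false
set_option backward.isDefEq.respectTransparency false
set_option backward.defeqAttrib.useBackward true

open CategoryTheory CategoryTheory.Limits AlgebraicGeometry TopologicalSpace

namespace Groth.Pi1Inv

variable {X Y : Scheme.{u}}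

/-- Every cover of the source is the base change of a cover of the target. -/
def Lifts (f : X ⟶ Y) : Prop :=
  ∀ B : FEt.Cat X, ∃ (A : FEt.Cat Y) (β : B.left ⟶ A.left), IsPullback β B.hom A.hom f

theorem lifts_of_essSurj (f : X ⟶ Y) [(FEt.restrict f).EssSurj] : Lifts f := fun B => by
  let A := (FEt.restrict f).objPreimage B
  let e := (FEt.restrict f).objObjPreimageIso B
  have : IsIso e.hom.left := ((MorphismProperty.Over.forget _ _ _ ⋙ Over.forget _).mapIso e).isIso_hom
  have hw : e.hom.left ≫ B.hom = pullback.snd A.hom f := MorphismProperty.Over.w e.hom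
  refine ⟨A, inv e.hom.left ≫ pullback.fst A.hom f, (IsPullback.of_hasPullback A.hom f).of_iso
    (asIso e.hom.left) (Iso.refl _) (Iso.refl _) (Iso.refl _) ?_ ?_ (by simp) (by simp)⟩
  · simp
  · simpa using hw.symm

theorem Lifts.of_iso {X' Y' : Scheme.{u}} {f : X ⟶ Y} {f' : X' ⟶ Y'} (h : Lifts f) (eX : X ≅ X')
    (eY : Y ≅ Y') (w : f ≫ eY.hom = eX.hom ≫ f') : Lifts f' := fun B => by
  have hB : FEt.prop (B.hom ≫ eX.inv) := MorphismProperty.comp_mem _ _ _ B.prop ⟨inferInstance, inferInstance⟩
  obtain ⟨A, β, hβ⟩ := h (MorphismProperty.Over.mk ⊤ (B.hom ≫ eX.inv) hB)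
  have hA : FEt.prop (A.hom ≫ eY.hom) := MorphismProperty.comp_mem _ _ _ A.prop ⟨inferInstance, inferInstance⟩
  exact ⟨MorphismProperty.Over.mk ⊤ (A.hom ≫ eY.hom) hA, β,
    hβ.of_iso (Iso.refl _) (Iso.refl _) eX eY (by simp) (by simp) (by simp) w⟩

theorem essSurj_of_lifts (f : X ⟶ Y) [UniversallyInjective f] [UniversallyClosed f] [Surjective f]
    (h : ∀ V : Y.Opens, IsAffineOpen V → Lifts (f ∣_ V)) : (FEt.restrict f).EssSurj :=
  restrict_essSurj_of_affine f fun V hV B => h V hV B

theorem isEquivalence_of_lifts (f : X ⟶ Y) [UniversallyInjective f] [UniversallyClosed f] [Surjective f]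
    (h : ∀ V : Y.Opens, IsAffineOpen V → Lifts (f ∣_ V)) : (FEt.restrict f).IsEquivalence := by
  have := (Pi1FEt.restrict_full_faithful_of_univHomeo f).1
  have := (Pi1FEt.restrict_full_faithful_of_univHomeo f).2
  have := essSurj_of_lifts f h
  exact { }

/-- Surjective closed immersions of affine schemes lift covers. -/
theorem lifts_of_isClosedImmersion (i : X ⟶ Y) [IsClosedImmersion i] [Surjective i] [IsAffine Y] : Lifts i := by
  have : IsAffine X := isAffine_of_isAffineHom i
  let φ : Γ(Y, ⊤) →+* Γ(X, ⊤) := i.appTop.hom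
  have hsurj : Function.Surjective φ := ((HasAffineProperty.iff_of_isAffine (P := @IsClosedImmersion) (f := i)).1 inferInstance).2
  let I := RingHom.ker φ
  have : Surjective (Spec.map i.appTop) := ((MorphismProperty.arrow_mk_iso_iff @Surjective
    (arrowIsoSpecΓOfIsAffine i)).1 ‹_›)
  have hnil : ∀ x ∈ I, IsNilpotent x := by
    intro x hx
    rw [← mem_nilradical, nilradical_eq_sInf, Ideal.mem_sInf]
    intro p hp
    obtain ⟨q, hq⟩ := (Spec.map i.appTop).surjective ⟨p, hp⟩
    have hq' : Ideal.comap φ q.asIdeal = p := congrArg PrimeSpectrum.asIdeal hq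
    rw [← hq', Ideal.mem_comap, show φ x = 0 from hx]
    exact zero_mem _
  have : HenselianRing Γ(Y, ⊤) I := Groth.Hensel1.henselianRing_of_forall_isNilpotent hnil
  have := restrict_isEquivalence Γ(Y, ⊤) I
  have h1 := lifts_of_essSurj (Spec.map (CommRingCat.ofHom (algebraMap Γ(Y, ⊤) (Γ(Y, ⊤) ⧸ I))))
  let e : CommRingCat.of (Γ(Y, ⊤) ⧸ I) ≅ Γ(X, ⊤) := (RingHom.quotientKerEquivOfSurjective hsurj).toCommRingCatIso
  refine h1.of_iso ((Scheme.Spec.mapIso e.op).symm ≪≫ X.isoSpec.symm) Y.isoSpec.symm ?_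
  simp only [Iso.trans_hom, Iso.symm_hom, Functor.mapIso_inv, Iso.op_inv, Category.assoc]
  rw [← Scheme.isoSpec_inv_naturality, ← Category.assoc]
  change _ = (Spec.map e.inv ≫ Spec.map i.appTop) ≫ Y.isoSpec.inv
  rw [← Spec.map_comp]
  congr 2
  rw [Iso.eq_comp_inv]
  rfl

/-- Pullback of finite étale covers along a thickening is an equivalence. -/
theorem isEquivalence_of_thickening (i : X ⟶ Y) [IsClosedImmersion i] [Surjective i] :
    (FEt.restrict i).IsEquivalence :=
  isEquivalence_of_lifts i fun V hV => by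
    have : IsAffine (V : Scheme.{u}) := hV
    have : Surjective (i ∣_ V) :=
      MorphismProperty.of_isPullback (isPullback_morphismRestrict i V).flip ‹Surjective i›
    have : IsClosedImmersion (i ∣_ V) :=
      MorphismProperty.of_isPullback (isPullback_morphismRestrict i V).flip ‹IsClosedImmersion i›
    exact lifts_of_isClosedImmersion (i ∣_ V)

end Groth.Pi1Inv
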