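import Groth.Agent.Pi1Inv.Devissage
import Groth.Agent.Pi1Inv.Thickening
import Mathlib.AlgebraicGeometry.Morphisms.Integral

/-!
# Finite étale covers and universal homeomorphisms
-/

universe u

set_option autoImplicit false
set_option backward.isDefEq.respectTransparency false
set_option backward.defeqAttrib.useBackward true

open CategoryTheory CategoryTheory.Limits AlgebraicGeometry Opposite

namespace Groth.Pi1Inv

/-- Lifting of algebras gives lifting of covers. -/
theorem lifts_of_algLifts (R S : Type u) [CommRing R] [CommRing S] [Algebra R S] (h : AlgLifts R S) :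
    Lifts (Spec.map (CommRingCat.ofHom (algebraMap R S))) := by
  have : (CommAlgCat.FiniteEtale.baseChange.{u, u} R S).EssSurj := ⟨fun C => by
    obtain ⟨D, _, _, _, _, ⟨e⟩⟩ := h C.obj
    exact ⟨CommAlgCat.FiniteEtale.of R D, ⟨CommAlgCat.FiniteEtale.isoMk e⟩⟩⟩
  have : ((CommAlgCat.FiniteEtale.baseChange.{u, u} R S).op ⋙ Pi1FEt.specFun S).EssSurj := inferInstance
  have h' : (Pi1FEt.specFun R ⋙ FEt.restrict (Spec.map (CommRingCat.ofHom (algebraMap R S)))).EssSurj :=
    Functor.essSurj_of_iso (Pi1FEt.specFunPullbackIso R S)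
  have : (FEt.restrict (Spec.map (CommRingCat.ofHom (algebraMap R S)))).EssSurj :=
    ⟨fun C => let ⟨D, hD⟩ := h'.mem_essImage C; ⟨(Pi1FEt.specFun R).obj D, hD⟩⟩
  exact lifts_of_essSurj _

/-- Integral, radicial, surjective morphisms to affine schemes lift covers. -/
theorem lifts_of_isIntegralHom {X Y : Scheme.{u}} (f : X ⟶ Y) [IsIntegralHom f]
    [UniversallyInjective f] [Surjective f] [IsAffine Y] : Lifts f := by
  have : IsAffine X := isAffine_of_isAffineHom f
  letI : Algebra Γ(Y, ⊤) Γ(X, ⊤) := f.appTop.hom.toAlgebra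
  have e := arrowIsoSpecΓOfIsAffine f
  have hint : (algebraMap Γ(Y, ⊤) Γ(X, ⊤)).IsIntegral :=
    IsIntegralHom.SpecMap_iff.1 ((MorphismProperty.arrow_mk_iso_iff @IsIntegralHom e).1 ‹_›)
  have hui : Groth.PropsBasic.UH.UI (algebraMap Γ(Y, ⊤) Γ(X, ⊤)) :=
    (Groth.PropsBasic.UH.UI.spec_iff _).1
      ((MorphismProperty.arrow_mk_iso_iff @UniversallyInjective e).1 ‹_›)
  have hsurj : Surjective (Spec.map f.appTop) :=
    (MorphismProperty.arrow_mk_iso_iff @Surjective e).1 ‹_›
  have hnil : ∀ x : Γ(Y, ⊤), algebraMap Γ(Y, ⊤) Γ(X, ⊤) x = 0 → IsNilpotent x := by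
    intro x hx
    rw [← mem_nilradical, nilradical_eq_sInf, Ideal.mem_sInf]
    intro p hp
    obtain ⟨q, hq⟩ := (Spec.map f.appTop).surjective ⟨p, hp⟩
    have hq' : Ideal.comap f.appTop.hom q.asIdeal = p := congrArg PrimeSpectrum.asIdeal hq
    rw [← hq', Ideal.mem_comap, show f.appTop.hom x = 0 from hx]
    exact zero_mem _
  refine (lifts_of_algLifts Γ(Y, ⊤) Γ(X, ⊤) (algLifts_of_ui hint hui hnil)).of_iso
    X.isoSpec.symm Y.isoSpec.symm ?_
  exact Scheme.isoSpec_inv_naturality f

/-- Finite étale covers are insensitive to universal homeomorphisms. -/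
theorem isEquivalence_of_isIntegralHom {X Y : Scheme.{u}} (f : X ⟶ Y) [IsIntegralHom f]
    [UniversallyInjective f] [Surjective f] : (FEt.restrict f).IsEquivalence :=
  isEquivalence_of_lifts f fun V hV => by
    have : IsAffine (V : Scheme.{u}) := hV
    have : IsIntegralHom (f ∣_ V) :=
      MorphismProperty.of_isPullback (isPullback_morphismRestrict f V).flip ‹IsIntegralHom f›
    have : UniversallyInjective (f ∣_ V) :=
      MorphismProperty.of_isPullback (isPullback_morphismRestrict f V).flip ‹UniversallyInjective f›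
    have : Surjective (f ∣_ V) :=
      MorphismProperty.of_isPullback (isPullback_morphismRestrict f V).flip ‹Surjective f›
    exact lifts_of_isIntegralHom (f ∣_ V)

end Groth.Pi1Inv
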