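import Groth.Agent.Pi1Inv.Henselian
import Groth.Agent.Hensel1.Local
import Groth.Agent.FrobLCI.RelFrobEtale
import Groth.Agent.EtaleAlgebra.MilnorAlgebra
import Mathlib.Algebra.CharP.Lemmas
import Mathlib.RingTheory.Smooth.NoetherianDescent

/-!
# Lifting finite étale algebras along elementary universal homeomorphisms
-/

universe u

set_option autoImplicit false
set_option backward.isDefEq.respectTransparency false

open TensorProduct

namespace Groth.Pi1Inv

/-- Every finite étale `S`-algebra comes from a finite étale `R`-algebra. -/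
def AlgLifts (R S : Type u) [CommRing R] [CommRing S] [Algebra R S] : Prop :=
  ∀ (P : Type u) [CommRing P] [Algebra S P] [Module.Finite S P] [Algebra.Etale S P],
    ∃ (D : Type u) (_ : CommRing D) (_ : Algebra R D), Module.Finite R D ∧ Algebra.Etale R D ∧
      Nonempty (S ⊗[R] D ≃ₐ[S] P)

section basic

variable {R S T : Type u} [CommRing R] [CommRing S] [CommRing T] [Algebra R S]

theorem AlgLifts.trans [Algebra R T] [Algebra S T] [IsScalarTower R S T] (h₁ : AlgLifts R S)
    (h₂ : AlgLifts S T) : AlgLifts R T := by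
  intro P _ _ _ _
  obtain ⟨D₁, _, _, _, _, ⟨e₁⟩⟩ := h₂ P
  obtain ⟨D, _, _, hD, hD', ⟨e⟩⟩ := h₁ D₁
  exact ⟨D, inferInstance, inferInstance, hD, hD',
    ⟨((Algebra.TensorProduct.cancelBaseChange R S T T D).symm.trans
      (Algebra.TensorProduct.congr AlgEquiv.refl e)).trans e₁⟩⟩

/-- Surjections with nil kernel lift finite étale algebras. -/
theorem algLifts_of_surjective (hsurj : Function.Surjective (algebraMap R S))
    (hnil : ∀ x, algebraMap R S x = 0 → IsNilpotent x) : AlgLifts R S := by
  intro P _ _ _ _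
  let I := RingHom.ker (algebraMap R S)
  have : HenselianRing R I := Groth.Hensel1.henselianRing_of_forall_isNilpotent hnil
  let ε : (R ⧸ I) ≃ₐ[R] S := Ideal.quotientKerAlgEquivOfSurjective (f := Algebra.ofId R S) hsurj
  letI : Algebra (R ⧸ I) P := ((algebraMap S P).comp ε.toRingEquiv.toRingHom).toAlgebra
  letI : Algebra R P := ((algebraMap S P).comp (algebraMap R S)).toAlgebra
  have : IsScalarTower R S P := IsScalarTower.of_algebraMap_eq fun _ => rfl
  letI : Algebra (R ⧸ I) S := ε.toRingEquiv.toRingHom.toAlgebra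
  have : IsScalarTower (R ⧸ I) S P := IsScalarTower.of_algebraMap_eq fun _ => rfl
  have hε : Function.Bijective (algebraMap (R ⧸ I) S) := ε.bijective
  have : Module.Finite (R ⧸ I) S := Module.Finite.of_surjective (Algebra.linearMap (R ⧸ I) S) hε.2
  have : Module.Finite (R ⧸ I) P := Module.Finite.trans S P
  have : Algebra.Etale (R ⧸ I) S := RingHom.etale_algebraMap.mp (RingHom.Etale.of_bijective hε)
  have : Algebra.Etale (R ⧸ I) P := Algebra.Etale.comp (R ⧸ I) S P
  obtain ⟨D, _, _, hD, hD', ⟨e⟩⟩ := Groth.Hensel1.exists_finite_etale_lift I P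
  refine ⟨D, inferInstance, inferInstance, hD, hD', ⟨AlgEquiv.ofRingEquiv
    (f := ((Algebra.TensorProduct.congr ε.symm (AlgEquiv.refl : D ≃ₐ[R] D)).toRingEquiv.trans e.toRingEquiv))
    fun s => ?_⟩⟩
  show e (Algebra.TensorProduct.congr ε.symm (AlgEquiv.refl : D ≃ₐ[R] D) (s ⊗ₜ 1)) = _
  rw [Algebra.TensorProduct.congr_apply, Algebra.TensorProduct.map_tmul]
  refine (e.commutes (ε.symm s)).trans ?_
  show algebraMap S P (ε (ε.symm s)) = _
  rw [AlgEquiv.apply_symm_apply]

/-- Lifts may be checked modulo a nil ideal of the target. -/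
theorem AlgLifts.of_quotient (J : Ideal S) (hJ : ∀ x ∈ J, IsNilpotent x) (h : AlgLifts R (S ⧸ J)) :
    AlgLifts R S := by
  intro P _ _ _ _
  obtain ⟨D, _, _, hD, hD', ⟨e⟩⟩ := h ((S ⧸ J) ⊗[S] P)
  have : HenselianRing S J := Groth.Hensel1.henselianRing_of_forall_isNilpotent hJ
  have := baseChange_isEquivalence S J
  let X : CommAlgCat.FiniteEtale.{u} S := CommAlgCat.FiniteEtale.of S (S ⊗[R] D)
  let Y : CommAlgCat.FiniteEtale.{u} S := CommAlgCat.FiniteEtale.of S P
  let i : (CommAlgCat.FiniteEtale.baseChange.{u, u} S (S ⧸ J)).obj X ≅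
      (CommAlgCat.FiniteEtale.baseChange.{u, u} S (S ⧸ J)).obj Y :=
    CommAlgCat.FiniteEtale.isoMk
      ((Algebra.TensorProduct.cancelBaseChange R S (S ⧸ J) (S ⧸ J) D).trans e)
  let j : X ≅ Y := (CommAlgCat.FiniteEtale.baseChange.{u, u} S (S ⧸ J)).preimageIso i
  exact ⟨D, inferInstance, inferInstance, hD, hD',
    ⟨CommAlgCat.algEquivOfIso ((CommAlgCat.finiteEtale.{u} S).ι.mapIso j)⟩⟩

end basic

section frobenius

/-- An extension in characteristic `p` containing all `p`-th powers lifts finite étale algebras. -/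
theorem algLifts_of_frobenius {R S : Type u} [CommRing R] [CommRing S] [Algebra R S] (p : ℕ)
    [Fact p.Prime] (hS0 : (p : S) = 0) (hinj : Function.Injective (algebraMap R S))
    (hpow : ∀ s : S, ∃ r : R, algebraMap R S r = s ^ p) : AlgLifts R S := by
  intro P _ _ _ _
  have hp := (Fact.out : p.Prime)
  choose φ₀ hφ₀ using hpow
  let φ : S →+* R :=
    { toFun := φ₀
      map_one' := hinj (by rw [hφ₀, map_one, one_pow])
      map_mul' := fun a b => hinj (by rw [hφ₀, map_mul, hφ₀, hφ₀, mul_pow])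
      map_zero' := hinj (by rw [hφ₀, map_zero, zero_pow hp.ne_zero])
      map_add' := fun a b => hinj (by
        obtain ⟨r, hr⟩ := exists_add_pow_prime_eq hp a b
        rw [hφ₀, map_add, hφ₀, hφ₀, hr, hS0, zero_mul, zero_mul, zero_mul, add_zero]) }
  have hφ : ∀ s, algebraMap R S (φ s) = s ^ p := hφ₀
  letI : Algebra S R := φ.toAlgebra
  letI : Algebra R P := ((algebraMap S P).comp (algebraMap R S)).toAlgebra
  have : IsScalarTower R S P := IsScalarTower.of_algebraMap_eq fun _ => rfl
  let D := R ⊗[S] P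
  have hP0 : (p : P) = 0 := by rw [← map_natCast (algebraMap S P), hS0, map_zero]
  have hPadd : ∀ a b : P, (a + b) ^ p = a ^ p + b ^ p := fun a b => by
    obtain ⟨r, hr⟩ := exists_add_pow_prime_eq hp a b
    rw [hr, hP0, zero_mul, zero_mul, zero_mul, add_zero]
  let incl : R →+* P := (algebraMap S P).comp (algebraMap R S)
  let f : R →+ P →+ P := AddMonoidHom.mk'
    (fun r => AddMonoidHom.mk' (fun a => incl r * a ^ p) fun a b => by rw [hPadd, mul_add])
    fun r r' => AddMonoidHom.ext fun a => by simp [add_mul]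
  have hf : ∀ (s : S) (r : R) (a : P), f (s • r) a = f r (s • a) := fun s r a => by
    show incl (φ s * r) * a ^ p = incl r * (s • a) ^ p
    rw [Algebra.smul_def, mul_pow, map_mul]
    simp only [incl, RingHom.comp_apply, hφ, map_pow]
    ring
  let θa : D →+ P := TensorProduct.liftAddHom f hf
  have hθa : ∀ (r : R) (a : P), θa (r ⊗ₜ a) = incl r * a ^ p := fun r a => rfl
  let θ₀ : D →ₐ[R] P :=
    { toFun := θa
      map_one' := by
        show θa ((1 : R) ⊗ₜ[S] (1 : P)) = 1
        rw [hθa, map_one, one_pow, one_mul]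
      map_mul' := fun x y => by
        induction x using TensorProduct.induction_on with
        | zero => rw [zero_mul, map_zero, zero_mul]
        | add x x' hx hx' => rw [add_mul, map_add, map_add, hx, hx', add_mul]
        | tmul r a =>
          induction y using TensorProduct.induction_on with
          | zero => rw [mul_zero, map_zero, mul_zero]
          | add y y' hy hy' => rw [mul_add, map_add, map_add, hy, hy', mul_add]
          | tmul r' a' =>
            rw [Algebra.TensorProduct.tmul_mul_tmul, hθa, hθa, hθa, map_mul, mul_pow]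
            ring
      map_zero' := map_zero θa
      map_add' := map_add θa
      commutes' := fun r => by
        show θa (r ⊗ₜ[S] (1 : P)) = incl r
        rw [hθa, one_pow, mul_one] }
  let T := S ⊗[R] D
  let θ : T →ₐ[S] P := Algebra.TensorProduct.lift (Algebra.ofId S P) θ₀ fun _ _ => Commute.all _ _
  letI : Algebra T P := θ.toRingHom.toAlgebra
  have : IsScalarTower S T P := IsScalarTower.of_algebraMap_eq fun s => (θ.commutes s).symm
  have : Algebra.Etale T P := Algebra.Etale.of_restrictScalars S T P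
  have hT0 : (p : T) = 0 := by rw [← map_natCast (algebraMap S T), hS0, map_zero]
  have hθ : ∀ (s : S) (r : R) (a : P),
      θ (s ⊗ₜ (r ⊗ₜ a)) = algebraMap S P s * (incl r * a ^ p) := fun s r a => rfl
  let ι : P → T := fun a => (1 : S) ⊗ₜ[R] ((1 : R) ⊗ₜ[S] a)
  have hsmul : ∀ (r : R) (s : S), (algebraMap R S r * s) = r • s := fun r s => (Algebra.smul_def r s).symm
  have hfrob : ∀ x : T, x ^ p = ι (θ x) := by
    have hTadd : ∀ a b : T, (a + b) ^ p = a ^ p + b ^ p := fun a b => by
      obtain ⟨r, hr⟩ := exists_add_pow_prime_eq hp a b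
      rw [hr, hT0, zero_mul, zero_mul, zero_mul, add_zero]
    have hιadd : ∀ a b : P, ι (a + b) = ι a + ι b := fun a b => by
      simp only [ι, TensorProduct.tmul_add]
    intro x
    induction x using TensorProduct.induction_on with
    | zero => rw [map_zero, zero_pow hp.ne_zero]; simp [ι]
    | add x y hx hy => rw [hTadd, hx, hy, map_add, hιadd]
    | tmul s d =>
      induction d using TensorProduct.induction_on with
      | zero => rw [TensorProduct.tmul_zero, map_zero, zero_pow hp.ne_zero]; simp [ι]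
      | add d e hd he => rw [TensorProduct.tmul_add, hTadd, hd, he, map_add, hιadd]
      | tmul r a =>
        rw [Algebra.TensorProduct.tmul_pow, Algebra.TensorProduct.tmul_pow, hθ]
        have e1 : s ^ p = φ s • (1 : S) := by rw [Algebra.smul_def, hφ, mul_one]
        rw [e1, TensorProduct.smul_tmul, TensorProduct.smul_tmul']
        have e2 : φ s • r ^ p = φ (s * algebraMap R S r) * 1 := by
          apply hinj
          rw [smul_eq_mul, mul_one, map_mul, map_pow, hφ, hφ, mul_pow]
        rw [e2, mul_one]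
        have e3 : φ (s * algebraMap R S r) = (s * algebraMap R S r) • (1 : R) := by
          rw [Algebra.smul_def, mul_one]; rfl
        rw [e3, TensorProduct.smul_tmul, Algebra.smul_def, map_mul, mul_assoc]
        rfl
  have hbij : Function.Bijective θ := FrobLCI.RelFrobEtale.bijective_of_etale p T P hP0
    (fun x hx => ⟨p, by rw [hfrob, show θ x = 0 from hx]; simp [ι]⟩)
    (fun a => ⟨ι a, by
      show θ ((1 : S) ⊗ₜ[R] ((1 : R) ⊗ₜ[S] a)) = a ^ p
      rw [hθ, map_one, map_one, one_mul, one_mul]⟩)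
  exact ⟨D, inferInstance, inferInstance, inferInstance, inferInstance, ⟨AlgEquiv.ofBijective θ hbij⟩⟩

end frobenius

section patching

attribute [local instance] Algebra.TensorProduct.rightAlgebra

/-- Patching finite étale algebras along a Milnor square. -/
theorem algLifts_of_isFibreSquare {B' B A' A : Type u} [CommRing B'] [CommRing B] [CommRing A'] [CommRing A]
    [Algebra B' B] [Algebra B' A'] [Algebra B A] [Algebra A' A] [Algebra B' A]
    [IsScalarTower B' B A] [IsScalarTower B' A' A] (hsq : EtMil.IsFibreSquare B' B A' A)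
    (h : AlgLifts B A) : AlgLifts B' A' := by
  intro P _ _ _ _
  let C := A ⊗[A'] P
  obtain ⟨D, _, _, hD, hD', ⟨e⟩⟩ := h C
  letI : Algebra D C := ((e : A ⊗[B] D →+* C).comp
    (Algebra.TensorProduct.includeRight : D →ₐ[B] A ⊗[B] D).toRingHom).toAlgebra
  have : IsScalarTower B A C := TensorProduct.isScalarTower_left
  have : IsScalarTower B D C := IsScalarTower.of_algebraMap_eq fun b => by
    show algebraMap A C (algebraMap B A b) = e ((1 : A) ⊗ₜ[B] algebraMap B D b)
    rw [← e.commutes]
    congr 1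
    show algebraMap B A b ⊗ₜ[B] (1 : D) = (1 : A) ⊗ₜ[B] algebraMap B D b
    rw [Algebra.algebraMap_eq_smul_one, TensorProduct.smul_tmul, ← Algebra.algebraMap_eq_smul_one]
  have : IsScalarTower A' A C := TensorProduct.isScalarTower_left
  have : IsScalarTower A' P C := IsScalarTower.of_algebraMap_eq fun a => by
    show algebraMap A' A a ⊗ₜ[A'] (1 : P) = (1 : A) ⊗ₜ[A'] algebraMap A' P a
    rw [Algebra.algebraMap_eq_smul_one, TensorProduct.smul_tmul, ← Algebra.algebraMap_eq_smul_one]
  have h1 : Algebra.IsPushout B D A C := Algebra.IsPushout.symm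
    ⟨IsBaseChange.of_equiv e.toLinearEquiv fun d => rfl⟩
  letI : Algebra B' D := ((algebraMap B D).comp (algebraMap B' B)).toAlgebra
  letI : Algebra B' P := ((algebraMap A' P).comp (algebraMap B' A')).toAlgebra
  have : IsScalarTower B' B D := IsScalarTower.of_algebraMap_eq fun _ => rfl
  have : IsScalarTower B' A' P := IsScalarTower.of_algebraMap_eq fun _ => rfl
  have hBC : ∀ b : B', algebraMap D C (algebraMap B' D b) = algebraMap P C (algebraMap B' P b) := fun b => by
    show algebraMap D C (algebraMap B D (algebraMap B' B b)) = algebraMap P C (algebraMap A' P (algebraMap B' A' b))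
    rw [← IsScalarTower.algebraMap_apply B D C, ← IsScalarTower.algebraMap_apply A' P C,
      IsScalarTower.algebraMap_apply B A C, IsScalarTower.algebraMap_apply A' A C,
      ← IsScalarTower.algebraMap_apply B' B A, ← IsScalarTower.algebraMap_apply B' A' A]
  let D' : Subalgebra B' (D × P) :=
    { carrier := {x | algebraMap D C x.1 = algebraMap P C x.2}
      mul_mem' := fun {x y} (hx : _ = _) (hy : _ = _) => by
        show algebraMap D C (x.1 * y.1) = algebraMap P C (x.2 * y.2)
        rw [map_mul, map_mul, hx, hy]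
      add_mem' := fun {x y} (hx : _ = _) (hy : _ = _) => by
        show algebraMap D C (x.1 + y.1) = algebraMap P C (x.2 + y.2)
        rw [map_add, map_add, hx, hy]
      algebraMap_mem' := hBC }
  letI : Algebra D' D := ((AlgHom.fst B' D P).comp D'.val).toRingHom.toAlgebra
  letI : Algebra D' P := ((AlgHom.snd B' D P).comp D'.val).toRingHom.toAlgebra
  letI : Algebra D' C := ((algebraMap D C).comp (algebraMap D' D)).toAlgebra
  have : IsScalarTower D' D C := IsScalarTower.of_algebraMap_eq fun _ => rfl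
  have : IsScalarTower D' P C := IsScalarTower.of_algebraMap_eq fun x => x.2
  have : IsScalarTower B' D' D := IsScalarTower.of_algebraMap_eq fun _ => rfl
  have : IsScalarTower B' D' P := IsScalarTower.of_algebraMap_eq fun _ => rfl
  have hC : Function.Surjective (algebraMap P C) :=
    TensorProduct.mk_surjective A' P A hsq.1
  have hsq' : EtMil.IsFibreSquare D' D P C :=
    ⟨hC, fun d c hdc => ⟨⟨(d, c), hdc⟩, ⟨rfl, rfl⟩, fun y hy =>
      Subtype.ext (Prod.ext hy.1 hy.2)⟩⟩
  obtain ⟨k1, k2⟩ := EtaleAlgebra.MilnorAlgebra.isPushout_pair (D' := D') (D := D) (C' := P) (C := C) hsq hsq'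
  let e₁ : B ⊗[B'] D' ≃ₐ[B] D := Algebra.IsPushout.equiv B' B D' D
  let e₂ : A' ⊗[B'] D' ≃ₐ[A'] P := Algebra.IsPushout.equiv B' A' D' P
  have : Algebra.Etale B (B ⊗[B'] D') := Algebra.Etale.of_equiv e₁.symm
  have : Algebra.Etale A' (A' ⊗[B'] D') := Algebra.Etale.of_equiv e₂.symm
  have : Module.Finite B (B ⊗[B'] D') := Module.Finite.equiv e₁.toLinearEquiv.symm
  have : Module.Finite A' (A' ⊗[B'] D') := Module.Finite.equiv e₂.toLinearEquiv.symm
  exact ⟨D', inferInstance, inferInstance, EtaleAlgebra.Milnor.finite_of_baseChange hsq,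
    EtaleAlgebra.MilnorAlgebra.etale_of_baseChange hsq, ⟨e₂⟩⟩

end patching

section step

variable {R S : Type u} [CommRing R] [CommRing S] [Algebra R S]

/-- Elements of `R` whose multiples stay in `R`. -/
def conductor (R S : Type u) [CommRing R] [CommRing S] [Algebra R S] : Ideal R where
  carrier := {r | ∀ s : S, ∃ t : R, algebraMap R S t = algebraMap R S r * s}
  add_mem' := fun {a b} ha hb s => by
    obtain ⟨t, ht⟩ := ha s
    obtain ⟨t', ht'⟩ := hb s
    exact ⟨t + t', by rw [map_add, map_add, ht, ht', add_mul]⟩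
  zero_mem' := fun s => ⟨0, by rw [map_zero, zero_mul]⟩
  smul_mem' := fun c r hr s => by
    obtain ⟨t, ht⟩ := hr s
    exact ⟨c * t, by rw [map_mul, smul_eq_mul, map_mul, ht, mul_assoc]⟩

theorem exists_mem_conductor {i : R} (hi : i ∈ conductor R S) (s : S) :
    ∃ j ∈ conductor R S, algebraMap R S j = algebraMap R S i * s := by
  obtain ⟨j, hj⟩ := hi s
  refine ⟨j, fun s' => ?_, hj⟩
  obtain ⟨t, ht⟩ := hi (s * s')
  exact ⟨t, by rw [ht, hj, mul_assoc]⟩

theorem exists_of_mem_map_conductor {z : S} (hz : z ∈ (conductor R S).map (algebraMap R S)) :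
    ∃ i ∈ conductor R S, algebraMap R S i = z := by
  induction hz using Submodule.span_induction with
  | mem z hz => obtain ⟨i, hi, rfl⟩ := hz; exact ⟨i, hi, rfl⟩
  | zero => exact ⟨0, zero_mem _, map_zero _⟩
  | add a b _ _ ha hb =>
    obtain ⟨i, hi, rfl⟩ := ha
    obtain ⟨j, hj, rfl⟩ := hb
    exact ⟨i + j, add_mem hi hj, map_add _ _ _⟩
  | smul c a _ ha =>
    obtain ⟨i, hi, rfl⟩ := ha
    obtain ⟨j, hj, hj'⟩ := exists_mem_conductor hi c
    exact ⟨j, hj, by rw [hj', smul_eq_mul, mul_comm]⟩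

/-- Reduction of lifting along an injection to the conductor quotients. -/
theorem algLifts_of_conductor (hinj : Function.Injective (algebraMap R S))
    (h : ∀ [Algebra (R ⧸ conductor R S) (S ⧸ (conductor R S).map (algebraMap R S))]
      [IsScalarTower R (R ⧸ conductor R S) (S ⧸ (conductor R S).map (algebraMap R S))],
      Function.Injective (algebraMap (R ⧸ conductor R S) (S ⧸ (conductor R S).map (algebraMap R S))) →
      AlgLifts (R ⧸ conductor R S) (S ⧸ (conductor R S).map (algebraMap R S))) :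
    AlgLifts R S := by
  let I := conductor R S
  letI : Algebra (R ⧸ I) (S ⧸ I.map (algebraMap R S)) :=
    Ideal.Quotient.algebraQuotientOfLEComap Ideal.le_comap_map
  have : IsScalarTower R (R ⧸ I) (S ⧸ I.map (algebraMap R S)) :=
    IsScalarTower.of_algebraMap_eq fun _ => rfl
  have hsq : EtMil.IsFibreSquare R (R ⧸ I) S (S ⧸ I.map (algebraMap R S)) := by
    refine ⟨Ideal.Quotient.mk_surjective, fun b a' hba => ?_⟩
    obtain ⟨r, rfl⟩ := Ideal.Quotient.mk_surjective b
    obtain ⟨i, hi, hi'⟩ := exists_of_mem_map_conductor (Ideal.Quotient.eq.1 hba)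
    refine ⟨r - i, ⟨?_, ?_⟩, fun y hy => ?_⟩
    · show Ideal.Quotient.mk I (r - i) = Ideal.Quotient.mk I r
      rw [map_sub, Ideal.Quotient.eq_zero_iff_mem.2 hi, sub_zero]
    · rw [map_sub, hi', sub_sub_cancel]
    · exact hinj (by rw [hy.2, map_sub, hi', sub_sub_cancel])
  refine algLifts_of_isFibreSquare hsq (h ?_)
  rw [injective_iff_map_eq_zero]
  intro b hb
  obtain ⟨r, rfl⟩ := Ideal.Quotient.mk_surjective b
  obtain ⟨i, hi, hi'⟩ := exists_of_mem_map_conductor (Ideal.Quotient.eq_zero_iff_mem.1 hb)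
  rw [Ideal.Quotient.eq_zero_iff_mem, ← hinj hi']
  exact hi

/-- Adjoining an element with square and cube in the base. -/
theorem algLifts_of_sq (hinj : Function.Injective (algebraMap R S)) (x : S)
    (hgen : Algebra.adjoin R {x} = ⊤) (h2 : x ^ 2 ∈ (algebraMap R S).range)
    (h3 : x ^ 3 ∈ (algebraMap R S).range) : AlgLifts R S := by
  obtain ⟨r₂, hr₂⟩ := h2
  obtain ⟨r₃, hr₃⟩ := h3
  have hspan : ∀ s : S, ∃ a b : R, s = algebraMap R S a + algebraMap R S b * x := by
    intro s
    have hs : s ∈ Algebra.adjoin R {x} := hgen ▸ Algebra.mem_top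
    induction hs using Algebra.adjoin_induction with
    | mem y hy => obtain rfl := hy; exact ⟨0, 1, by simp⟩
    | algebraMap r => exact ⟨r, 0, by simp⟩
    | add y z _ _ hy hz =>
      obtain ⟨a, b, rfl⟩ := hy
      obtain ⟨c, d, rfl⟩ := hz
      exact ⟨a + c, b + d, by rw [map_add, map_add]; ring⟩
    | mul y z _ _ hy hz =>
      obtain ⟨a, b, rfl⟩ := hy
      obtain ⟨c, d, rfl⟩ := hz
      exact ⟨a * c + b * d * r₂, a * d + b * c, by
        simp only [map_add, map_mul, hr₂]; ring⟩
  have hI : r₂ ∈ conductor R S := fun s => by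
    obtain ⟨a, b, rfl⟩ := hspan s
    exact ⟨r₂ * a + b * r₃, by simp only [map_add, map_mul, hr₂, hr₃]; ring⟩
  refine algLifts_of_conductor hinj fun {_ _} hbar => ?_
  let π := Ideal.Quotient.mk ((conductor R S).map (algebraMap R S))
  have hπ : ∀ r : R, algebraMap (R ⧸ conductor R S) (S ⧸ (conductor R S).map (algebraMap R S))
      (Ideal.Quotient.mk _ r) = π (algebraMap R S r) :=
    fun r => (IsScalarTower.algebraMap_apply R (R ⧸ conductor R S)
      (S ⧸ (conductor R S).map (algebraMap R S)) r).symm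
  have hx2 : π x ^ 2 = 0 := by
    rw [← map_pow, ← hr₂, Ideal.Quotient.eq_zero_iff_mem]
    exact Ideal.mem_map_of_mem _ hI
  refine AlgLifts.of_quotient (Ideal.span {π x}) (fun y hy => ?_) (algLifts_of_surjective (fun y => ?_) fun b hb => ?_)
  · obtain ⟨c, rfl⟩ := Ideal.mem_span_singleton.1 hy
    exact ⟨2, by rw [mul_pow, hx2, zero_mul]⟩
  · obtain ⟨y, rfl⟩ := Ideal.Quotient.mk_surjective y
    obtain ⟨s, rfl⟩ := Ideal.Quotient.mk_surjective y
    obtain ⟨a, b, rfl⟩ := hspan s
    refine ⟨Ideal.Quotient.mk _ a, Ideal.Quotient.eq.2 ?_⟩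
    show algebraMap (R ⧸ conductor R S) (S ⧸ (conductor R S).map (algebraMap R S)) (Ideal.Quotient.mk _ a) -
      π (algebraMap R S a + algebraMap R S b * x) ∈ _
    rw [hπ, map_add, map_mul, sub_add_cancel_left]
    exact neg_mem (Ideal.mul_mem_left _ _ (Ideal.mem_span_singleton_self _))
  · obtain ⟨c, hc⟩ := Ideal.mem_span_singleton.1 (Ideal.Quotient.eq_zero_iff_mem.1 hb)
    exact ⟨2, hbar (by rw [map_pow, hc, mul_pow, hx2, zero_mul, map_zero])⟩

/-- Adjoining an element with `p x` and `x ^ p` in the base. -/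
theorem algLifts_of_frob_step (hinj : Function.Injective (algebraMap R S)) (x : S)
    (hgen : Algebra.adjoin R {x} = ⊤) (p : ℕ) (hp : p.Prime) (h1 : (p : S) * x ∈ (algebraMap R S).range)
    (h2 : x ^ p ∈ (algebraMap R S).range) : AlgLifts R S := by
  have : Fact p.Prime := ⟨hp⟩
  obtain ⟨r₂, hr₂⟩ := h2
  have : Module.Finite R S := by
    have hx : IsIntegral R x := ⟨Polynomial.X ^ p - Polynomial.C r₂, Polynomial.monic_X_pow_sub_C _ hp.ne_zero, by
      rw [Polynomial.eval₂_sub, Polynomial.eval₂_X_pow, Polynomial.eval₂_C, hr₂, sub_self]⟩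
    have := hx.fg_adjoin_singleton
    rw [hgen, Algebra.top_toSubmodule] at this
    exact ⟨this⟩
  have hQ : ∀ s : S, ∃ N, (p : S) ^ N * s ∈ (algebraMap R S).range := by
    intro s
    have hs : s ∈ Algebra.adjoin R {x} := hgen ▸ Algebra.mem_top
    induction hs using Algebra.adjoin_induction with
    | mem y hy => obtain rfl := hy; exact ⟨1, by rwa [pow_one]⟩
    | algebraMap r => exact ⟨0, r, by rw [pow_zero, one_mul]⟩
    | add y z _ _ hy hz =>
      obtain ⟨N, a, ha⟩ := hy
      obtain ⟨M, b, hb⟩ := hz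
      exact ⟨N + M, (p : R) ^ M * a + (p : R) ^ N * b, by
        rw [map_add, map_mul, map_mul, map_pow, map_pow, map_natCast, ha, hb]; ring⟩
    | mul y z _ _ hy hz =>
      obtain ⟨N, a, ha⟩ := hy
      obtain ⟨M, b, hb⟩ := hz
      exact ⟨N + M, a * b, by rw [map_mul, ha, hb]; ring⟩
  obtain ⟨N, hN⟩ : ∃ N, (p : R) ^ N ∈ conductor R S := by
    obtain ⟨t, ht⟩ := Module.Finite.fg_top (R := R) (M := S)
    choose M hM using hQ
    refine ⟨t.sup M, fun s => ?_⟩
    have hs : s ∈ Submodule.span R (t : Set S) := ht.symm ▸ Submodule.mem_top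
    induction hs using Submodule.span_induction with
    | mem y hy =>
      obtain ⟨a, ha⟩ := hM y
      refine ⟨(p : R) ^ (t.sup M - M y) * a, ?_⟩
      rw [map_mul, ha, map_pow, map_pow, map_natCast, ← mul_assoc, ← pow_add,
        Nat.sub_add_cancel (Finset.le_sup hy)]
    | zero => exact ⟨0, by simp⟩
    | add y z _ _ hy hz =>
      obtain ⟨a, ha⟩ := hy
      obtain ⟨b, hb⟩ := hz
      exact ⟨a + b, by rw [map_add, ha, hb, mul_add]⟩
    | smul c y _ hy =>
      obtain ⟨a, ha⟩ := hy
      exact ⟨c * a, by rw [map_mul, ha, Algebra.smul_def]; ring⟩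
  refine algLifts_of_conductor hinj fun {_ _} hbar => ?_
  let Rb := R ⧸ conductor R S
  let Sb := S ⧸ (conductor R S).map (algebraMap R S)
  have hpN : (p : Sb) ^ N = 0 := by
    rw [← map_natCast (Ideal.Quotient.mk ((conductor R S).map (algebraMap R S))), ← map_pow,
      Ideal.Quotient.eq_zero_iff_mem, ← map_natCast (algebraMap R S), ← map_pow]
    exact Ideal.mem_map_of_mem _ hN
  refine AlgLifts.of_quotient (Ideal.span {(p : Sb)}) (fun y hy => ?_) ?_
  · obtain ⟨c, rfl⟩ := Ideal.mem_span_singleton.1 hy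
    exact ⟨N, by rw [mul_pow, hpN, zero_mul]⟩
  let S₁ := Sb ⧸ Ideal.span {(p : Sb)}
  let K := RingHom.ker (algebraMap Rb S₁)
  letI : Algebra (Rb ⧸ K) S₁ := (RingHom.kerLift (algebraMap Rb S₁)).toAlgebra
  have : @IsScalarTower Rb (Rb ⧸ K) S₁ Algebra.toSMul Algebra.toSMul Algebra.toSMul :=
    IsScalarTower.of_algebraMap_eq fun _ => rfl
  refine AlgLifts.trans (S := Rb ⧸ K) (algLifts_of_surjective Ideal.Quotient.mk_surjective fun b hb => ?_) ?_
  · have hb' : algebraMap Rb S₁ b = 0 := Ideal.Quotient.eq_zero_iff_mem.1 hb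
    obtain ⟨c, hc⟩ := Ideal.mem_span_singleton.1 (Ideal.Quotient.eq_zero_iff_mem.1 hb')
    exact ⟨N, hbar (by rw [map_pow, hc, mul_pow, hpN, zero_mul, map_zero])⟩
  have hS₁ : (p : S₁) = 0 := by
    rw [← map_natCast (Ideal.Quotient.mk (Ideal.span {(p : Sb)})), Ideal.Quotient.eq_zero_iff_mem]
    exact Ideal.mem_span_singleton_self _
  refine algLifts_of_frobenius p hS₁ (RingHom.kerLift_injective _) fun y => ?_
  obtain ⟨y, rfl⟩ := Ideal.Quotient.mk_surjective y
  obtain ⟨s, rfl⟩ := Ideal.Quotient.mk_surjective y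
  let π : S →+* S₁ := (Ideal.Quotient.mk _).comp (Ideal.Quotient.mk _)
  have hπ : ∀ r : R, algebraMap (Rb ⧸ K) S₁ (Ideal.Quotient.mk K (Ideal.Quotient.mk _ r)) = π (algebraMap R S r) :=
    fun r => congrArg (Ideal.Quotient.mk _) (IsScalarTower.algebraMap_apply R Rb Sb r).symm
  suffices h : ∃ r : R, π (algebraMap R S r) = π s ^ p by
    obtain ⟨r, hr⟩ := h
    exact ⟨_, (hπ r).trans hr⟩
  have hs : s ∈ Algebra.adjoin R {x} := hgen ▸ Algebra.mem_top
  induction hs using Algebra.adjoin_induction with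
  | mem y hy => obtain rfl := hy; exact ⟨r₂, by rw [← map_pow, hr₂]⟩
  | algebraMap r => exact ⟨r ^ p, by rw [map_pow, map_pow]⟩
  | add y z _ _ hy hz =>
    obtain ⟨a, ha⟩ := hy
    obtain ⟨b, hb⟩ := hz
    obtain ⟨r, hr⟩ := exists_add_pow_prime_eq hp (π y) (π z)
    exact ⟨a + b, by rw [map_add, map_add, map_add, ha, hb, hr, hS₁, zero_mul, zero_mul, zero_mul, add_zero]⟩
  | mul y z _ _ hy hz =>
    obtain ⟨a, ha⟩ := hy
    obtain ⟨b, hb⟩ := hz
    exact ⟨a * b, by rw [map_mul, map_mul, map_mul, ha, hb, mul_pow]⟩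

end step

end Groth.Pi1Inv
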