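import Groth.Agent.Pi1Inv.AlgLifts
import Groth.Agent.PropsBasic.UnivHomeoTower
import Mathlib.RingTheory.Etale.Basic
import Mathlib.RingTheory.IntegralClosure.IsIntegralClosure.Basic

/-!
# Finite étale algebras lift along universal homeomorphisms of rings
-/

universe u

set_option autoImplicit false
set_option backward.isDefEq.respectTransparency false
set_option linter.style.haveILetI false

open TensorProduct Polynomial

namespace Groth.Pi1Inv

open Groth.PropsBasic.UH

variable {A B : Type u} [CommRing A] [CommRing B] [Algebra A B]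

theorem algLifts_adjoin_step (C D : Subalgebra A B)
    (hCD : C ≤ D) (x : B) (hxD : x ∈ D)
    (hgen : ∀ S : Subalgebra A B, C ≤ S → x ∈ S → D ≤ S) (hx : SQP C x) (h : AlgLifts A C) :
    AlgLifts A D := by
  letI : Algebra C D := (Subalgebra.inclusion hCD).toRingHom.toAlgebra
  have : IsScalarTower A C D := IsScalarTower.of_algebraMap_eq fun _ => rfl
  refine h.trans (S := C) ?_
  have hi : Function.Injective (algebraMap C D) := Subalgebra.inclusion_injective hCD
  let x' : D := ⟨x, hxD⟩
  have htop : Algebra.adjoin C {x'} = ⊤ := by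
    refine top_unique fun d _ => ?_
    let S : Subalgebra A B := ((Algebra.adjoin C {x'}).restrictScalars A).map D.val
    have hS : D ≤ S := hgen S
      (fun c hc => ⟨algebraMap C D ⟨c, hc⟩, (Algebra.adjoin C {x'}).algebraMap_mem ⟨c, hc⟩, rfl⟩)
      ⟨x', Algebra.self_mem_adjoin_singleton _ _, rfl⟩
    obtain ⟨d', hd', he⟩ := hS d.2
    rwa [Subtype.ext he] at hd'
  have hmem : ∀ d : D, (d : B) ∈ C → d ∈ (algebraMap C D).range := fun d hd =>
    ⟨⟨d, hd⟩, Subtype.ext rfl⟩
  rcases hx with ⟨h2, h3⟩ | ⟨p, hp, h1, h2⟩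
  · exact algLifts_of_sq hi x' htop (hmem _ (by simpa using h2)) (hmem _ (by simpa using h3))
  · exact algLifts_of_frob_step hi x' htop p hp (hmem _ (by simpa using h1)) (hmem _ (by simpa using h2))

theorem algLifts_adjoin_of_valid (hinj : Function.Injective (algebraMap A B)) (l : List B)
    (hl : Valid (SQP (A := A)) l) : AlgLifts A (Algebra.adjoin A {b : B | b ∈ l}) := by
  let D : ℕ → Subalgebra A B := fun n =>
    Algebra.adjoin A {b : B | ∃ j : Fin l.length, j.1 < n ∧ b = l.get j}
  have key : ∀ n ≤ l.length, AlgLifts A (D n) := by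
    intro n
    induction n with
    | zero =>
      intro _
      refine algLifts_of_surjective (fun d => ?_) fun a ha => ⟨1, ?_⟩
      · have hd : (d : B) ∈ (⊥ : Subalgebra A B) :=
          (Algebra.adjoin_le (fun b hb => by obtain ⟨j, hj, -⟩ := hb; exact absurd hj (Nat.not_lt_zero _))) d.2
        obtain ⟨a, ha⟩ := Algebra.mem_bot.1 hd
        exact ⟨a, Subtype.ext ha⟩
      · rw [pow_one]
        exact hinj ((congrArg Subtype.val ha).trans (map_zero _).symm)
    | succ n ih =>
      intro hn
      refine algLifts_adjoin_step (D n) (D (n + 1)) ?_ (l.get ⟨n, hn⟩) ?_ (fun S hS hxS => ?_)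
        (hl ⟨n, hn⟩) (ih (Nat.le_of_lt hn))
      · refine Algebra.adjoin_mono ?_
        rintro b ⟨j, hj, hb⟩
        exact ⟨j, Nat.lt_succ_of_lt hj, hb⟩
      · exact Algebra.subset_adjoin ⟨⟨n, hn⟩, Nat.lt_succ_self n, rfl⟩
      · refine Algebra.adjoin_le ?_
        rintro b ⟨j, hj, rfl⟩
        rcases Nat.lt_succ_iff_lt_or_eq.1 hj with hj' | hj'
        · exact hS (Algebra.subset_adjoin ⟨j, hj', rfl⟩)
        · obtain rfl : j = ⟨n, hn⟩ := Fin.ext hj'
          exact hxS
  have e : D l.length = Algebra.adjoin A {b : B | b ∈ l} := by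
    refine congrArg (Algebra.adjoin A) (Set.ext fun b => ⟨?_, fun hb => ?_⟩)
    · rintro ⟨j, -, rfl⟩
      exact List.get_mem _ _
    · obtain ⟨i, hi⟩ := List.get_of_mem (show b ∈ l from hb)
      exact ⟨i, i.2, hi.symm⟩
  exact e ▸ key l.length le_rfl

/-- Integral, radicial injective ring maps lift finite étale algebras. -/
theorem algLifts_of_injective_ui (hinj : Function.Injective (algebraMap A B))
    (hint : (algebraMap A B).IsIntegral) (hui : UI (algebraMap A B)) : AlgLifts A B := by
  intro P _ _ _ _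
  classical
  obtain ⟨B₀, C₀, _, _, hfg, _, ⟨e⟩⟩ := Algebra.Etale.exists_subalgebra_fg (R := A) (A := B) (B := P)
  obtain ⟨E, hE⟩ := hfg
  obtain ⟨G, hG⟩ := (inferInstance : Algebra.FiniteType B₀ C₀).out
  have : Algebra.IsIntegral B (B ⊗[B₀] C₀) := by
    have := Module.Finite.equiv e.toLinearEquiv
    exact Algebra.IsIntegral.of_finite B _
  choose q hq hq0 using fun c : C₀ => Algebra.IsIntegral.isIntegral (R := B) ((1 : B) ⊗ₜ[B₀] c)
  obtain ⟨l, hl, hlE⟩ := exists_valid_of_forall SQP.mono
    (fun b => reach_SQP_eq_top hint hui b) (E ∪ G.biUnion fun c => (q c).coeffs)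
  have hl₁ := algLifts_adjoin_of_valid hinj l hl
  generalize hB₁ : Algebra.adjoin A {b : B | b ∈ l} = B₁ at hlE hl₁
  have hle : B₀ ≤ B₁ := hE ▸ Algebra.adjoin_le fun b hb => hlE (Finset.mem_union_left _ hb)
  letI : Algebra B₀ B₁ := (Subalgebra.inclusion hle).toRingHom.toAlgebra
  have : @IsScalarTower B₀ B₁ B Algebra.toSMul Algebra.toSMul Algebra.toSMul :=
    IsScalarTower.of_algebraMap_eq fun _ => rfl
  let C₁ := B₁ ⊗[B₀] C₀
  let ι : C₁ →ₐ[B₁] B ⊗[B₀] C₀ :=
    Algebra.TensorProduct.map (Algebra.ofId B₁ B) (AlgHom.id B₀ C₀)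
  have hι : Function.Injective ι :=
    Module.Flat.rTensor_preserves_injective_linearMap (M := C₀)
      (IsScalarTower.toAlgHom B₀ B₁ B).toLinearMap Subtype.val_injective
  have : Module.Finite B₁ C₁ := by
    have : Algebra.IsIntegral B₁ C₁ := by
      constructor
      intro z
      have hz : ∀ c : C₀, IsIntegral B₁ ((1 : B₁) ⊗ₜ[B₀] c) := by
        intro c
        have hc : c ∈ Algebra.adjoin B₀ (G : Set C₀) := hG ▸ Algebra.mem_top
        induction hc using Algebra.adjoin_induction with
        | mem c hc =>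
          have hlift : q c ∈ Polynomial.lifts (algebraMap B₁ B) := by
            refine (Polynomial.lifts_iff_coeff_lifts _).2 fun n => ?_
            by_cases hn : (q c).coeff n = 0
            · exact ⟨0, by rw [hn, map_zero]⟩
            · exact ⟨⟨_, hlE (Finset.mem_union_right _ (Finset.mem_biUnion.2
                ⟨c, hc, Polynomial.coeff_mem_coeffs hn⟩))⟩, rfl⟩
          obtain ⟨q₁, hq₁, -, hmon⟩ := Polynomial.lifts_and_natDegree_eq_and_monic hlift (hq c)
          refine ⟨q₁, hmon, hι ?_⟩
          rw [map_zero, ← aeval_def, ← aeval_algHom_apply]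
          show Polynomial.aeval ((1 : B) ⊗ₜ[B₀] c) q₁ = 0
          rw [← Polynomial.aeval_map_algebraMap B, hq₁]
          exact hq0 c
        | algebraMap b =>
          rw [Algebra.algebraMap_eq_smul_one, TensorProduct.tmul_smul, TensorProduct.smul_tmul']
          have : ((b • (1 : B₁)) ⊗ₜ[B₀] (1 : C₀)) = algebraMap B₁ C₁ (b • 1) := rfl
          exact this ▸ isIntegral_algebraMap
        | add a b _ _ ha hb => rw [TensorProduct.tmul_add]; exact ha.add hb
        | mul a b _ _ ha hb =>
          have := ha.mul hb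
          rwa [Algebra.TensorProduct.tmul_mul_tmul, one_mul] at this
      induction z using TensorProduct.induction_on with
      | zero => exact isIntegral_zero
      | tmul b c =>
        have h1 : b ⊗ₜ[B₀] c = b • ((1 : B₁) ⊗ₜ[B₀] c) := by
          rw [TensorProduct.smul_tmul', smul_eq_mul, mul_one]
        rw [h1]
        exact (hz c).smul b
      | add x y hx hy => exact hx.add hy
    exact Algebra.IsIntegral.finite
  obtain ⟨D, _, _, hD, hD', ⟨e₁⟩⟩ := hl₁ C₁
  exact ⟨D, inferInstance, inferInstance, hD, hD',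
    ⟨(((Algebra.TensorProduct.cancelBaseChange A B₁ B B D).symm.trans
      (Algebra.TensorProduct.congr AlgEquiv.refl e₁)).trans
      (Algebra.TensorProduct.cancelBaseChange B₀ B₁ B B C₀)).trans e.symm⟩⟩

/-- Integral, radicial ring maps with nil kernel lift finite étale algebras. -/
theorem algLifts_of_ui (hint : (algebraMap A B).IsIntegral) (hui : UI (algebraMap A B))
    (hnil : ∀ x, algebraMap A B x = 0 → IsNilpotent x) : AlgLifts A B := by
  let K := RingHom.ker (algebraMap A B)
  letI : Algebra (A ⧸ K) B := (RingHom.kerLift (algebraMap A B)).toAlgebra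
  have : @IsScalarTower A (A ⧸ K) B Algebra.toSMul Algebra.toSMul Algebra.toSMul :=
    IsScalarTower.of_algebraMap_eq fun _ => rfl
  exact AlgLifts.trans (S := A ⧸ K)
    (algLifts_of_surjective Ideal.Quotient.mk_surjective
      fun a ha => hnil a (Ideal.Quotient.eq_zero_iff_mem.1 ha))
    (algLifts_of_injective_ui (RingHom.kerLift_injective _)
      (RingHom.IsIntegral.tower_top (f := Ideal.Quotient.mk K) _ hint)
      (UI.of_comp (Ideal.Quotient.mk K) _ hui))

end Groth.Pi1Inv
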