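import Groth.Agent.Pi1Etale.EqLocus
import Groth.Prelude.Def_FEt
import Mathlib.AlgebraicGeometry.RelativeGluing

/-!
# Gluing finite étale covers along a universal homeomorphism
-/

universe u

set_option autoImplicit false
set_option backward.isDefEq.respectTransparency false
set_option backward.defeqAttrib.useBackward true

open CategoryTheory CategoryTheory.Limits AlgebraicGeometry TopologicalSpace

namespace Groth.Pi1Inv

open Groth.EtaleBase

variable {X Y : Scheme.{u}}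

/-- Maps into étale schemes extend uniquely along universal homeomorphisms. -/
theorem existsUnique_extend {T T' Z S : Scheme.{u}} (b : T' ⟶ T) [UniversallyInjective b]
    [UniversallyClosed b] [Surjective b] (π : Z ⟶ S) [Etale π] (t : T ⟶ S) (a : T' ⟶ Z)
    (ha : a ≫ π = b ≫ t) : ∃! φ : T ⟶ Z, φ ≫ π = t ∧ b ≫ φ = a := by
  let ZT : Over T := Over.mk (pullback.snd π t)
  let TT : Over T := Over.mk (𝟙 T)
  have : Etale ZT.hom := inferInstanceAs (Etale (pullback.snd π t))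
  let ψ : (Over.pullback b).obj TT ⟶ (Over.pullback b).obj ZT :=
    Over.homMk (pullback.lift (pullback.lift (pullback.snd (𝟙 T) b ≫ a) (pullback.snd (𝟙 T) b ≫ b)
      (by rw [Category.assoc, ha, Category.assoc])) (pullback.snd (𝟙 T) b) (by simp [ZT]))
      (by simp [ZT, TT])
  obtain ⟨φ', hφ'⟩ := (pullback_hom_bijective b ZT TT).2 ψ
  let φ := φ'.left ≫ pullback.fst π t
  have hw : φ'.left ≫ pullback.snd π t = 𝟙 T := Over.w φ'
  have h1 : φ ≫ π = t := by
    simp only [φ, Category.assoc, pullback.condition, reassoc_of% hw]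
    exact Category.id_comp t
  have h2 : b ≫ φ = a := by
    have h3 := congrArg (fun ξ => pullback.lift b (𝟙 T') (show b ≫ TT.hom = 𝟙 T' ≫ b by simp [TT]) ≫ Over.Hom.left ξ ≫
      pullback.fst (pullback.snd π t) b ≫ pullback.fst π t) hφ'
    simp [ψ, ZT, TT, φ] at h3 ⊢
    exact h3
  refine ⟨φ, ⟨h1, h2⟩, fun φ₂ hφ₂ => ?_⟩
  exact eq_of_surjective_agree π φ₂ φ (hφ₂.1.trans h1.symm) b (hφ₂.2.trans h2.symm)

section

variable (f : X ⟶ Y) [UniversallyInjective f] [UniversallyClosed f] [Surjective f] (B : FEt.Cat X)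

/-- A descended cover over an open. -/
structure Piece (V : Y.Opens) where
  obj : Scheme.{u}
  hom : obj ⟶ (V : Scheme.{u})
  map : (B.hom ⁻¹ᵁ (f ⁻¹ᵁ V) : Scheme.{u}) ⟶ obj
  prop : FEt.prop hom
  isPullback : IsPullback map (B.hom ∣_ (f ⁻¹ᵁ V)) hom (f ∣_ V)

variable {f B}
variable {V W K : Y.Opens} (P : Piece f B V) (Q : Piece f B W)

instance : Etale P.hom := P.prop.2
instance : IsFinite P.hom := P.prop.1
instance : UniversallyInjective (f ∣_ V) :=
  MorphismProperty.of_isPullback (isPullback_morphismRestrict f V).flip ‹UniversallyInjective f›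
instance : UniversallyClosed (f ∣_ V) :=
  MorphismProperty.of_isPullback (isPullback_morphismRestrict f V).flip ‹UniversallyClosed f›
instance : Surjective (f ∣_ V) :=
  MorphismProperty.of_isPullback (isPullback_morphismRestrict f V).flip ‹Surjective f›
instance : UniversallyInjective P.map :=
  MorphismProperty.of_isPullback P.isPullback.flip (inferInstanceAs (UniversallyInjective (f ∣_ V)))
instance : UniversallyClosed P.map :=
  MorphismProperty.of_isPullback P.isPullback.flip (inferInstanceAs (UniversallyClosed (f ∣_ V)))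
instance : Surjective P.map :=
  MorphismProperty.of_isPullback P.isPullback.flip (inferInstanceAs (Surjective (f ∣_ V)))

omit [UniversallyInjective f] [UniversallyClosed f] [Surjective f] in
theorem le_preimage (h : V ≤ W) : B.hom ⁻¹ᵁ (f ⁻¹ᵁ V) ≤ B.hom ⁻¹ᵁ (f ⁻¹ᵁ W) := fun _ hx => h hx

omit [UniversallyInjective f] [UniversallyClosed f] [Surjective f] in
theorem map_comp (P : Piece f B V) :
    P.map ≫ P.hom ≫ V.ι = (B.hom ⁻¹ᵁ (f ⁻¹ᵁ V)).ι ≫ B.hom ≫ f := by
  rw [← Category.assoc, P.isPullback.w, Category.assoc, morphismRestrict_ι, morphismRestrict_ι_assoc]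

theorem existsUnique_trans (h : V ≤ W) :
    ∃! φ : P.obj ⟶ Q.obj, φ ≫ Q.hom = P.hom ≫ Y.homOfLE h ∧
      P.map ≫ φ = B.left.homOfLE (le_preimage h) ≫ Q.map :=
  existsUnique_extend P.map Q.hom (P.hom ≫ Y.homOfLE h) (B.left.homOfLE (le_preimage h) ≫ Q.map) (by
    rw [← cancel_mono W.ι]
    simp only [Category.assoc, map_comp, Scheme.homOfLE_ι, Scheme.homOfLE_ι_assoc])

noncomputable def trans (h : V ≤ W) : P.obj ⟶ Q.obj := (existsUnique_trans P Q h).exists.choose

@[reassoc]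
theorem trans_hom (h : V ≤ W) : trans P Q h ≫ Q.hom = P.hom ≫ Y.homOfLE h :=
  (existsUnique_trans P Q h).exists.choose_spec.1

@[reassoc]
theorem map_trans (h : V ≤ W) : P.map ≫ trans P Q h = B.left.homOfLE (le_preimage h) ≫ Q.map :=
  (existsUnique_trans P Q h).exists.choose_spec.2

theorem trans_unique (h : V ≤ W) {φ : P.obj ⟶ Q.obj} (h₁ : φ ≫ Q.hom = P.hom ≫ Y.homOfLE h)
    (h₂ : P.map ≫ φ = B.left.homOfLE (le_preimage h) ≫ Q.map) : φ = trans P Q h :=
  (existsUnique_trans P Q h).unique ⟨h₁, h₂⟩ ⟨trans_hom P Q h, map_trans P Q h⟩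

theorem trans_self : trans P P le_rfl = 𝟙 P.obj :=
  (trans_unique P P le_rfl (by simp) (by simp)).symm

theorem trans_trans (R : Piece f B K) (h : V ≤ W) (h' : W ≤ K) :
    trans P Q h ≫ trans Q R h' = trans P R (h.trans h') :=
  trans_unique P R (h.trans h') (by simp [trans_hom, trans_hom_assoc])
    (by rw [map_trans_assoc, map_trans, Scheme.homOfLE_homOfLE_assoc])

theorem isPullback_trans (h : V ≤ W) : IsPullback P.hom (trans P Q h) (Y.homOfLE h) Q.hom := by
  let j := Y.homOfLE h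
  let ψ : P.obj ⟶ pullback j Q.hom := pullback.lift P.hom (trans P Q h) (trans_hom P Q h).symm
  have : Etale (ψ ≫ pullback.fst j Q.hom) := by
    simp only [ψ, pullback.lift_fst]; infer_instance
  have : Etale ψ := Etale.of_comp ψ (pullback.fst j Q.hom)
  have hmap : (P.map ≫ ψ) ≫ pullback.snd j Q.hom = B.left.homOfLE (le_preimage h) ≫ Q.map := by
    simp [ψ, map_trans]
  have : UniversallyInjective ((P.map ≫ ψ) ≫ pullback.snd j Q.hom) := by
    rw [hmap]
    exact MorphismProperty.comp_mem @UniversallyInjective _ _ inferInstance inferInstance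
  have : UniversallyInjective (P.map ≫ ψ) :=
    MorphismProperty.of_isPullback
      (IsPullback.of_horiz_isIso_mono (fst := 𝟙 _) (snd := P.map ≫ ψ) (f := (P.map ≫ ψ) ≫ pullback.snd j Q.hom)
        (g := pullback.snd j Q.hom) ⟨Category.id_comp _⟩) this
  have : UniversallyInjective ψ := universallyInjective_of_surjective_comp P.map ψ
  have : Surjective ψ := ⟨fun p => by
    obtain ⟨b, hb⟩ := Q.map.surjective (pullback.snd j Q.hom p)
    have hbV : b.1 ∈ B.hom ⁻¹ᵁ (f ⁻¹ᵁ V) := by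
      change f (B.hom b.1) ∈ V
      have e1 : f (B.hom b.1) = W.ι (Q.hom (Q.map b)) := (congr($(map_comp Q).base b)).symm
      have e2 : (pullback.snd j Q.hom ≫ Q.hom ≫ W.ι) p = (pullback.fst j Q.hom ≫ V.ι) p := by
        rw [← pullback.condition_assoc, Scheme.homOfLE_ι]
      rw [e1, hb, show W.ι (Q.hom (pullback.snd j Q.hom p)) = (pullback.snd j Q.hom ≫ Q.hom ≫ W.ι) p from rfl, e2]
      exact (pullback.fst j Q.hom p).2
    refine ⟨P.map ⟨b.1, hbV⟩, (pullback.snd j Q.hom).injective ?_⟩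
    rw [← Scheme.Hom.comp_apply, ← Scheme.Hom.comp_apply, ← Category.assoc, hmap, Scheme.Hom.comp_apply, ← hb]
    congr 1
    apply (B.hom ⁻¹ᵁ (f ⁻¹ᵁ W)).ι.isOpenEmbedding.injective
    exact congr($(Scheme.homOfLE_ι B.left (le_preimage h)).base ⟨b.1, hbV⟩)⟩
  have : IsIso ψ := Pi1Etale.isIso_of_etale_universallyInjective_surjective ψ
  exact IsPullback.of_iso_pullback ⟨(trans_hom P Q h).symm⟩ (asIso ψ) (pullback.lift_fst _ _ _)
    (pullback.lift_snd _ _ _)

/-- The gluing datum of a family of pieces. -/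
noncomputable def gluingData (P : ∀ V : Y.directedAffineCover.I₀, Piece f B V.1) :
    Scheme.Cover.RelativeGluingData Y.directedAffineCover where
  functor :=
    { obj := fun V => (P V).obj
      map := fun {V W} h => trans (P V) (P W) (leOfHom h)
      map_id := fun V => trans_self (P V)
      map_comp := fun {U V W} h h' => (trans_trans (P U) (P V) (P W) (leOfHom h) (leOfHom h')).symm }
  natTrans :=
    { app := fun V => (P V).hom
      naturality := fun {V W} h => trans_hom (P V) (P W) (leOfHom h) }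
  equifibered := fun {V W} h => (isPullback_trans (P V) (P W) (leOfHom h)).flip

end

variable (f : X ⟶ Y) [UniversallyInjective f] [UniversallyClosed f] [Surjective f]

/-- Essential surjectivity of base change along a universal homeomorphism is local on the base. -/
theorem restrict_essSurj_of_affine
    (hloc : ∀ V : Y.Opens, IsAffineOpen V → ∀ B' : FEt.Cat (f ⁻¹ᵁ V : Scheme.{u}),
      ∃ (A : FEt.Cat (V : Scheme.{u})) (β : B'.left ⟶ A.left), IsPullback β B'.hom A.hom (f ∣_ V)) :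
    (FEt.restrict f).EssSurj := by
  refine ⟨fun B => ?_⟩
  have : IsFinite B.hom := B.prop.1
  have : Etale B.hom := B.prop.2
  have hp : ∀ V : Y.directedAffineCover.I₀, Nonempty (Piece f B V.1) := fun V => by
    have hprop : FEt.prop (B.hom ∣_ (f ⁻¹ᵁ V.1)) :=
      MorphismProperty.of_isPullback (isPullback_morphismRestrict B.hom _).flip B.prop
    obtain ⟨A, β, hβ⟩ := hloc V.1 V.2 (MorphismProperty.Over.mk ⊤ (B.hom ∣_ (f ⁻¹ᵁ V.1)) hprop)
    exact ⟨⟨A.left, A.hom, β, A.prop, hβ⟩⟩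
  let P := fun V => (hp V).some
  let d := gluingData P
  have hA : ∀ V : Y.directedAffineCover.I₀,
      IsPullback ((P V).hom) (colimit.ι d.functor V) (Scheme.Opens.ι V.1) d.toBase := fun V =>
    d.isPullback_natTrans_ι_toBase V
  have hprop : FEt.prop d.toBase := by
    have hloc : ∀ (Q : MorphismProperty Scheme.{u}) [IsZariskiLocalAtTarget Q] [Q.RespectsIso],
        (∀ V, Q (P V).hom) → Q d.toBase := fun Q _ _ hQ => by
      refine (IsZariskiLocalAtTarget.iff_of_openCover (P := Q) Y.directedAffineCover).2 fun V => ?_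
      exact (Q.cancel_left_of_respectsIso (hA V).flip.isoPullback.hom _).1 (by
        erw [(hA V).flip.isoPullback_hom_snd]; exact hQ V)
    exact ⟨hloc @IsFinite fun V => (P V).prop.1, hloc @Etale fun V => (P V).prop.2⟩
  let A : FEt.Cat Y := MorphismProperty.Over.mk ⊤ d.toBase hprop
  -- the comparison map
  let 𝒱 : B.left.OpenCover := B.left.openCoverOfIsOpenCover
    (fun V : Y.directedAffineCover.I₀ => B.hom ⁻¹ᵁ (f ⁻¹ᵁ V.1)) (eq_top_iff.2 fun b _ => by
      obtain ⟨_, ⟨V, hV, rfl⟩, hbV, -⟩ :=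
        Y.isBasis_affineOpens.exists_subset_of_mem_open (Set.mem_univ (f (B.hom b))) isOpen_univ
      exact Opens.mem_iSup.2 ⟨⟨V, hV⟩, hbV⟩)
  let g : ∀ V : Y.directedAffineCover.I₀, (B.hom ⁻¹ᵁ (f ⁻¹ᵁ V.1) : Scheme.{u}) ⟶ d.glued :=
    fun V => (P V).map ≫ colimit.ι d.functor V
  have hg : ∀ (V W : Y.directedAffineCover.I₀) (h : V.1 ≤ W.1), B.left.homOfLE (le_preimage h) ≫ g W = g V := by
    intro V W h
    simp only [g]
    rw [← map_trans_assoc (P V) (P W) h]
    exact congrArg ((P V).map ≫ ·) (colimit.w d.functor (homOfLE h))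
  obtain ⟨β, hβ⟩ : ∃ β : B.left ⟶ d.glued, ∀ V, (B.hom ⁻¹ᵁ (f ⁻¹ᵁ V.1)).ι ≫ β = g V := by
    refine ⟨𝒱.glueMorphisms g fun V W => ?_, fun V => 𝒱.ι_glueMorphisms g _ V⟩
    let pfst := pullback.fst (𝒱.f V) (𝒱.f W)
    let psnd := pullback.snd (𝒱.f V) (𝒱.f W)
    let c := pfst ≫ (B.hom ⁻¹ᵁ (f ⁻¹ᵁ V.1)).ι ≫ B.hom ≫ f
    refine Scheme.Cover.hom_ext ((pullback (𝒱.f V) (𝒱.f W)).openCoverOfIsOpenCover
      (fun K : {K : Y.directedAffineCover.I₀ // K.1 ≤ V.1 ∧ K.1 ≤ W.1} => c ⁻¹ᵁ K.1.1) ?_) _ _ ?_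
    · refine eq_top_iff.2 fun z _ => ?_
      have h1 : c z ∈ V.1 := (pfst z).2
      have h2 : c z ∈ W.1 := by
        have : c = psnd ≫ (B.hom ⁻¹ᵁ (f ⁻¹ᵁ W.1)).ι ≫ B.hom ≫ f := by
          simp only [c, pfst, psnd]; exact pullback.condition_assoc _
        rw [this]
        exact (psnd z).2
      obtain ⟨_, ⟨K, hK, rfl⟩, hzK, hKle⟩ :=
        Y.isBasis_affineOpens.exists_subset_of_mem_open (show c z ∈ V.1 ⊓ W.1 from ⟨h1, h2⟩) (V.1 ⊓ W.1).2
      exact Opens.mem_iSup.2 ⟨⟨⟨K, hK⟩, fun y hy => (hKle hy).1, fun y hy => (hKle hy).2⟩, hzK⟩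
    · rintro ⟨K, hKV, hKW⟩
      let ι' := (c ⁻¹ᵁ K.1).ι
      have hr : Set.range (ι' ≫ pfst ≫ (B.hom ⁻¹ᵁ (f ⁻¹ᵁ V.1)).ι).base ⊆
          Set.range (B.hom ⁻¹ᵁ (f ⁻¹ᵁ K.1)).ι.base := by
        rintro _ ⟨z, rfl⟩
        rw [Scheme.Opens.range_ι]
        exact z.2
      let l := IsOpenImmersion.lift (B.hom ⁻¹ᵁ (f ⁻¹ᵁ K.1)).ι _ hr
      have hl : l ≫ (B.hom ⁻¹ᵁ (f ⁻¹ᵁ K.1)).ι = ι' ≫ pfst ≫ (B.hom ⁻¹ᵁ (f ⁻¹ᵁ V.1)).ι :=
        IsOpenImmersion.lift_fac _ _ _
      have eV : ι' ≫ pfst = l ≫ B.left.homOfLE (le_preimage hKV) := by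
        rw [← cancel_mono (B.hom ⁻¹ᵁ (f ⁻¹ᵁ V.1)).ι, Category.assoc, Category.assoc]
        exact hl.symm.trans (congrArg (l ≫ ·) (Scheme.homOfLE_ι B.left (le_preimage hKV)).symm)
      have eW : ι' ≫ psnd = l ≫ B.left.homOfLE (le_preimage hKW) := by
        rw [← cancel_mono (B.hom ⁻¹ᵁ (f ⁻¹ᵁ W.1)).ι]
        rw [Category.assoc, Category.assoc]
        exact ((congrArg (ι' ≫ ·) (pullback.condition (f := 𝒱.f V) (g := 𝒱.f W)).symm).trans hl.symm).trans
          (congrArg (l ≫ ·) (Scheme.homOfLE_ι B.left (le_preimage hKW)).symm)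
      change ι' ≫ pfst ≫ g V = ι' ≫ psnd ≫ g W
      rw [reassoc_of% eV, reassoc_of% eW, hg K V hKV, hg K W hKW]
  have hβw : β ≫ d.toBase = B.hom ≫ f := by
    refine 𝒱.hom_ext _ _ fun V => ?_
    change (B.hom ⁻¹ᵁ (f ⁻¹ᵁ V.1)).ι ≫ β ≫ d.toBase = (B.hom ⁻¹ᵁ (f ⁻¹ᵁ V.1)).ι ≫ B.hom ≫ f
    rw [reassoc_of% (hβ V)]
    simp only [g, Category.assoc]
    rw [← map_comp (P V)]
    congr 1
    exact (hA V).w.symm
  let q : B.left ⟶ pullback d.toBase f := pullback.lift β B.hom hβw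
  have : IsIso q := by
    rw [← MorphismProperty.isomorphisms.iff,
      IsZariskiLocalAtTarget.iff_of_iSup_eq_top (P := MorphismProperty.isomorphisms Scheme)
        (fun V : Y.directedAffineCover.I₀ => pullback.snd d.toBase f ⁻¹ᵁ (f ⁻¹ᵁ V.1))
        (eq_top_iff.2 fun z _ => by
          obtain ⟨_, ⟨V, hV, rfl⟩, hbV, -⟩ := Y.isBasis_affineOpens.exists_subset_of_mem_open
            (Set.mem_univ (f (pullback.snd d.toBase f z))) isOpen_univ
          exact Opens.mem_iSup.2 ⟨⟨V, hV⟩, hbV⟩)]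
    intro V
    rw [MorphismProperty.isomorphisms.iff]
    let O := pullback.snd d.toBase f ⁻¹ᵁ (f ⁻¹ᵁ V.1)
    have hO : IsPullback (O.ι ≫ pullback.fst d.toBase f) (pullback.snd d.toBase f ∣_ (f ⁻¹ᵁ V.1))
        d.toBase ((f ⁻¹ᵁ V.1).ι ≫ f) :=
      (isPullback_morphismRestrict (pullback.snd d.toBase f) (f ⁻¹ᵁ V.1)).flip.paste_horiz
        (IsPullback.of_hasPullback d.toBase f)
    have hpre : q ⁻¹ᵁ O = B.hom ⁻¹ᵁ (f ⁻¹ᵁ V.1) := by
      rw [← Scheme.Hom.comp_preimage, pullback.lift_snd]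
    have hB : IsPullback ((q ⁻¹ᵁ O).ι ≫ β) ((B.left.isoOfEq hpre).hom ≫ B.hom ∣_ (f ⁻¹ᵁ V.1))
        d.toBase ((f ⁻¹ᵁ V.1).ι ≫ f) := by
      refine (((P V).isPullback.paste_horiz (hA V).flip)).of_iso (B.left.isoOfEq hpre).symm
        (Iso.refl _) (Iso.refl _) (Iso.refl _) ?_ ?_ ?_ ?_
      · have h1 : (B.left.isoOfEq hpre).inv ≫ (q ⁻¹ᵁ O).ι = (B.hom ⁻¹ᵁ (f ⁻¹ᵁ V.1)).ι :=
          Scheme.isoOfEq_inv_ι _ _
        simp only [Iso.symm_hom, Iso.refl_hom, Category.comp_id]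
        rw [← Category.assoc, h1, hβ V]
      · simp
      · simp
      · simp [morphismRestrict_ι]
    have e : q ∣_ O = hB.isoPullback.hom ≫ hO.isoPullback.inv := by
      rw [Iso.eq_comp_inv]
      apply pullback.hom_ext
      · rw [Category.assoc, hO.isoPullback_hom_fst, hB.isoPullback_hom_fst, morphismRestrict_ι_assoc,
          pullback.lift_fst]
      · rw [Category.assoc, hO.isoPullback_hom_snd, hB.isoPullback_hom_snd, ← cancel_mono (f ⁻¹ᵁ V.1).ι]
        simp only [Category.assoc, morphismRestrict_ι, Scheme.isoOfEq_hom_ι_assoc]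
        rw [← Category.assoc (q ∣_ O), morphismRestrict_ι, Category.assoc, pullback.lift_snd]
    rw [e]
    infer_instance
  exact ⟨A, ⟨MorphismProperty.Over.isoMk (asIso q).symm (by
    rw [Iso.symm_hom, asIso_inv, IsIso.inv_comp_eq]; exact (pullback.lift_snd _ _ _).symm)⟩⟩

end Groth.Pi1Inv
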